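import Cfsg.Agent.Lib.Helper35.SuzOrd.U1.Check
import Cfsg.Agent.Lib.Helper35.SuzOrd.U2.Check
import Cfsg.Agent.Lib.Helper35.SuzOrd.U3.Check
import Cfsg.Agent.Lib.Helper35.SuzOrd.Y0.Check
import Cfsg.Agent.Lib.Helper35.SuzOrd.X0.Fin
import Cfsg.Agent.Lib.Helper35.SuzOrd.X1.Fin
import Cfsg.Agent.Lib.Helper35.Suz1782.Check

namespace Cfsg.Agent.Lib.Helper35.SuzOrd

open Cfsg.Agent.Lib.Helper35 Cfsg.Spor

set_option maxRecDepth 100000

noncomputable def I : PresIface Suz := coxIface Suz.edges Suz.extra PresSuz.cc PresSuz.extraL PresSuz.R PresSuz.allGens PresSuz.hall PresSuz.hOK PresSuz.hextra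
theorem up4 : Finite (wsub I.val ([] : List (List Nat))) ∧ Nat.card (wsub I.val ([] : List (List Nat))) ≤ 1 := upper_nil I.val
theorem up3 : Finite (wsub I.val [[0], [1], [2], [3]]) ∧ Nat.card (wsub I.val [[0], [1], [2], [3]]) ≤ 2160 :=
  upper_cons 2160 1 2160 up4 (fun hf => card_upper_step I.val I.inv I.hinv [[0], [1], [2], [3]] ([] : List (List Nat)) U3.invL U3.R U3.S 2160
    (by decide +kernel) (by decide +kernel)
    (fun b hb => I.hR _ ((by decide +kernel : ∀ b ∈ U3.R, expand [[0], [1], [2], [3]] b ∈ PresSuz.R) b hb))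
    (by decide +kernel) U3.certData hf) (by decide +kernel)
theorem up2 : Finite (wsub I.val [[0], [1], [2], [3], [4]]) ∧ Nat.card (wsub I.val [[0], [1], [2], [3], [4]]) ≤ 604800 :=
  upper_cons 280 2160 604800 up3 (fun hf => card_upper_step I.val I.inv I.hinv [[0], [1], [2], [3], [4]] [[0], [1], [2], [3]] U2.invL U2.R U2.S 280
    (by decide +kernel) (by decide +kernel)
    (fun b hb => I.hR _ ((by decide +kernel : ∀ b ∈ U2.R, expand [[0], [1], [2], [3], [4]] b ∈ PresSuz.R) b hb))
    (by decide +kernel) U2.certData hf) (by decide +kernel)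
theorem up1 : Finite (wsub I.val [[0], [1], [2], [3], [4], [5]]) ∧ Nat.card (wsub I.val [[0], [1], [2], [3], [4], [5]]) ≤ 251596800 :=
  upper_cons 416 604800 251596800 up2 (fun hf => card_upper_step I.val I.inv I.hinv [[0], [1], [2], [3], [4], [5]] [[0], [1], [2], [3], [4]] U1.invL U1.R U1.S 416
    (by decide +kernel) (by decide +kernel)
    (fun b hb => I.hR _ ((by decide +kernel : ∀ b ∈ U1.R, expand [[0], [1], [2], [3], [4], [5]] b ∈ PresSuz.R) b hb))
    (by decide +kernel) U1.certData hf) (by decide +kernel)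
theorem up0 : Finite (wsub I.val [[0], [1], [2], [3], [4], [5], [6]]) ∧ Nat.card (wsub I.val [[0], [1], [2], [3], [4], [5], [6]]) ≤ 448345497600 :=
  upper_cons 1782 251596800 448345497600 up1 (fun hf => card_upper_step I.val I.inv I.hinv [[0], [1], [2], [3], [4], [5], [6]] [[0], [1], [2], [3], [4], [5]] PresSuz.cc.invL PresSuz.R Suz1782.S 1782
    (by decide +kernel) (by decide +kernel)
    (fun b hb => I.hR _ ((by decide +kernel : ∀ b ∈ PresSuz.R, expand [[0], [1], [2], [3], [4], [5], [6]] b ∈ PresSuz.R) b hb))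
    (by decide +kernel) Suz1782.certData hf) (by decide +kernel)
noncomputable abbrev pv2 := prodVal Suz1782.permData Suz22880.permData
theorem lo4 : 1 ≤ Nat.card (wsub pv2 ([] : List (List Nat))) := lower_nil pv2
theorem lo3 : 2160 ≤ Nat.card (wsub pv2 [[0], [1], [2], [3]]) :=
  lower_cons 2160 1 2160 lo4 (card_lower_step pv2 [[0], [1], [2], [3]] ([] : List (List Nat)) (by decide +kernel) 22879 (MonoidHom.snd _ _) Suz22880.pt
    (fun s hs i => walk_of_hom pv2 Suz22880.permData (MonoidHom.snd _ _) (fun _ => rfl) s ((by decide +kernel : ∀ s ∈ ([[0], [1], [2], [3]] : List (List Nat)), ∀ c ∈ s, c < PresSuz.cc.C) s hs) i)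
    371 2160 (by decide +kernel) X1.reach3 X1.fix3) (by decide +kernel)
theorem lo2 : 604800 ≤ Nat.card (wsub pv2 [[0], [1], [2], [3], [4]]) :=
  lower_cons 280 2160 604800 lo3 (card_lower_step pv2 [[0], [1], [2], [3], [4]] [[0], [1], [2], [3]] (by decide +kernel) 22879 (MonoidHom.snd _ _) Suz22880.pt
    (fun s hs i => walk_of_hom pv2 Suz22880.permData (MonoidHom.snd _ _) (fun _ => rfl) s ((by decide +kernel : ∀ s ∈ ([[0], [1], [2], [3], [4]] : List (List Nat)), ∀ c ∈ s, c < PresSuz.cc.C) s hs) i)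
    0 280 (by decide +kernel) X1.reach2 X1.fix2) (by decide +kernel)
theorem lo1 : 251596800 ≤ Nat.card (wsub pv2 [[0], [1], [2], [3], [4], [5]]) :=
  lower_cons 416 604800 251596800 lo2 (card_lower_step pv2 [[0], [1], [2], [3], [4], [5]] [[0], [1], [2], [3], [4]] (by decide +kernel) 1781 (MonoidHom.fst _ _) Suz1782.pt
    (fun s hs i => walk_of_hom pv2 Suz1782.permData (MonoidHom.fst _ _) (fun _ => rfl) s ((by decide +kernel : ∀ s ∈ ([[0], [1], [2], [3], [4], [5]] : List (List Nat)), ∀ c ∈ s, c < PresSuz.cc.C) s hs) i)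
    995 416 (by decide +kernel) X0.reach1 X0.fix1) (by decide +kernel)
theorem lo0 : 448345497600 ≤ Nat.card (wsub pv2 [[0], [1], [2], [3], [4], [5], [6]]) :=
  lower_cons 1782 251596800 448345497600 lo1 (card_lower_step pv2 [[0], [1], [2], [3], [4], [5], [6]] [[0], [1], [2], [3], [4], [5]] (by decide +kernel) 1781 (MonoidHom.fst _ _) Suz1782.pt
    (fun s hs i => walk_of_hom pv2 Suz1782.permData (MonoidHom.fst _ _) (fun _ => rfl) s ((by decide +kernel : ∀ s ∈ ([[0], [1], [2], [3], [4], [5], [6]] : List (List Nat)), ∀ c ∈ s, c < PresSuz.cc.C) s hs) i)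
    0 1782 (by decide +kernel) X0.reach0 X0.fix0) (by decide +kernel)
def cnt0 : Nat → Nat := fun k => ([1, 1365, 416] : List Nat).getD k 0
noncomputable def prim0 : PrimData Suz1782.permData 448345497600 where
  O := Suz1782.orbData
  r := 3
  cnt := cnt0
  hcnt := by
    intro k hk
    interval_cases k
    exacts [Suz1782.ocnt0, Suz1782.ocnt1, Suz1782.ocnt2]
  hsum := by decide +kernel
  hnum := by decide +kernel
  p := 11
  hp := by norm_num
  yw := Y0.yw
  hyC := by decide +kernel
  hnd := by decide +kernel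
  col := Y0.certData
def cnt1 : Nat → Nat := fun k => ([1, 486, 8505, 13608, 280] : List Nat).getD k 0
noncomputable def prim1 : PrimData Suz22880.permData 448345497600 where
  O := X1.orbData
  r := 5
  cnt := cnt1
  hcnt := by
    intro k hk
    interval_cases k
    exacts [X1.ocnt0, X1.ocnt1, X1.ocnt2, X1.ocnt3, X1.ocnt4]
  hsum := by decide +kernel
  hnum := by decide +kernel
  p := 11
  hp := by norm_num
  yw := Y0.yw
  hyC := by decide +kernel
  hnd := by decide +kernel
  col := Y0.certData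
theorem main : IsSimpleGroup Suz ∧ Nat.card Suz = 448345497600 :=
  simple_of_two I Suz1782.permData Suz22880.permData 448345497600 (by decide +kernel) up0 lo0 prim0 prim1
    X0.yfix0 X1.yfix0 X0.yfix0 X1.yfix0

end Cfsg.Agent.Lib.Helper35.SuzOrd
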